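import Mathlib
import Cfsg.Agent.H602.Small.Height
import Cfsg.Agent.H619.TameStar
import Cfsg.Agent.H619.TameSys
import Cfsg.Agent.H650.LinAct
import Cfsg.Agent.H658.MajorVal

/-!
# Linear characters acting on a block, and the ranks of the subsections

`a` a maximal Brauer pair of the block `B`, `r` representatives of the nontrivial fusion classes.
* `blockDefect_bel_of_central`: for `c` central in `a.1` the subsection `(c, b_c)` is major;
* `star_trace`: the trace of `χ ↦ star η χ` is `η(1) l(B) + ∑ᵢ η(rᵢ) l(b_{rᵢ})`;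
* `sum_rank_eq_zero`: this is zero for a stable linear character `η` with `η(c) ≠ 1`, `c` central;
* `sum_rank_eq_zero_int`: the same for a stable character with values `±1`, over the integers;
* `card_zero_add_le_bel`: `4 k(B) ≤ 3 k₀(B) + |a.1|` if `l(b_c) = 1` for some central `c`.
-/

set_option autoImplicit false
set_option linter.unusedSectionVars false

open Cfsg
open scoped ComplexConjugate

namespace Cfsg.Agent.H602.Small

open Cfsg.Agent.Blocks.Blau Cfsg.Agent.Blocks.Local Cfsg.Agent.Characters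
open Cfsg.Agent.H613.RegGram Cfsg.Agent.H613.Contrib Cfsg.Agent.H613.SubSys
open Cfsg.Agent.H613.SubFus Cfsg.Agent.H651 Cfsg.Agent.H619.Tame Cfsg.Agent.H650
open Cfsg.Agent.H639 Cfsg.Agent.H649

universe u

variable {G : Type u} [Group G] [Finite G] {p : ℕ} [Fact p.Prime] {M : Ideal AlgInt}
  {B : Set (IrrCharacter G)} {a : BrauerPairIdx G}

theorem pow_blockDefect_eq (hM : IsPModular p M) (hmax : IsMaximalBrauerPair p M B a.1 a.2) :
    p ^ blockDefect p B = Nat.card a.1 := by
  have := isPrime_of_isPModular hM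
  exact (S0908.result p M hM B hmax.1.2.1 a.1
    (Cfsg.Agent.H644.isDefectGroup_of_isMaximalBrauerPair hM hmax)).symm

/-- The subsections at the central elements are major. -/
theorem blockDefect_bel_of_central (hM : IsPModular p M)
    (hmax : IsMaximalBrauerPair p M B a.1 a.2) {c : G} (hc : c ∈ a.1)
    (hcc : ∀ d ∈ a.1, d * c = c * d) :
    blockDefect p (bel p M a c).2 = blockDefect p B := by
  have h0 := pow_blockDefect_eq hM hmax
  have h1 := Cfsg.Agent.H613.SubDef.card_le_defect hM hmax hc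
  have h3 : a.1 ⊓ Subgroup.centralizer ((Subgroup.zpowers c : Subgroup G) : Set G) = a.1 := by
    refine inf_eq_left.2 fun y hy => ?_
    rw [centralizer_zpowers, Subgroup.mem_centralizer_singleton_iff]
    exact hcc y hy
  rw [h3, ← h0] at h1
  obtain ⟨v, hv, hf, h2⟩ := Cfsg.Agent.H613.SubDef.exists_fus_defect hM hmax hc
  have h4 : Nat.card (a.1 ⊓ Subgroup.centralizer
      ((Subgroup.zpowers v : Subgroup G) : Set G) : Subgroup G) ≤ Nat.card a.1 :=
    Nat.card_le_card_of_injective _ (Subgroup.inclusion_injective inf_le_left)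
  rw [← h2, ← h0] at h4
  exact Nat.pow_right_injective hM.1.two_le (le_antisymm h4 h1)

theorem isStable_of_fus' (hM : IsPModular p M) (ha : IsBrauerPair p M a.1 a.2) {η : G → ℂ}
    (h : ∀ u v, u ∈ a.1 → v ∈ a.1 → Fus p M a u v → η v = η u) : IsStable p M a η := by
  intro u g b hu hb1 hb hgb
  have h1 : b = bel p M a u := eq_bel hM ha hb1 hb
  rw [h1] at hgb
  refine h u (g * u * g⁻¹) hu ?_ (Fus.of_le hM ha hgb)
  have h2 := hgb.le
  apply h2
  rw [conjIdx_fst, bel_fst, MonoidHom.map_zpowers]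
  exact Subgroup.mem_zpowers _

section sys

variable {ι : Type*} [Fintype ι] {r : ι → G}

/-- The trace of the star construction. -/
theorem star_trace [Fintype G] [Fintype B] (hM : IsPModular p M)
    (hmax : IsMaximalBrauerPair p M B a.1 a.2)
    (hr : ∀ i, r i ∈ a.1) (h : IsSys p M B r fun i => bel p M a (r i)) {η : G → ℂ}
    (hη : IsStable p M a η) :
    ∑ χ : B, classInner (H651.star p M a η ((χ : IrrCharacter G) : G → ℂ))
      ((χ : IrrCharacter G) : G → ℂ) =
      η 1 * blockRank p B + ∑ i, η (r i) * blockRank p (bel p M a (r i)).2 := by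
  rw [Finset.sum_congr rfl fun χ _ => classInner_star_sys hM hmax hr h hη χ.2 χ.2,
    Finset.sum_add_distrib, ← Finset.mul_sum, sum_rg_self hM hmax.1.2.1, Finset.sum_comm]
  congr 1
  refine Finset.sum_congr rfl fun i _ => ?_
  rw [← Finset.mul_sum]
  congr 1
  exact (h.sub i).sum_Cn_self hM

/-- A stable linear character which is nontrivial on the centre fixes no member of the block. -/
theorem star_ne (hM : IsPModular p M) (hmax : IsMaximalBrauerPair p M B a.1 a.2)
    {η : G → ℂ} (hη : IsStable p M a η) {c : G} (hc : c ∈ a.1)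
    (hcc : ∀ d ∈ a.1, d * c = c * d) (h1 : η c ≠ 1) {χ : IrrCharacter G} (hχ : χ ∈ B) :
    H651.star p M a η (χ : G → ℂ) ≠ (χ : G → ℂ) := by
  intro heq
  have := Fintype.ofFinite G
  have hsub := isSubsec_bel hM hmax hc
  have h2 := Cn_star (b := bel p M a c) hM hη (Core.isIrr_isClassFunction χ.2) hsub.pelt rfl
    (isPBlock_bel hM hmax.1.1 hc) (χ : G → ℂ)
  rw [heq, etaW_bel hM hmax.1.1 hη hc] at h2
  have : Fintype (Subgroup.centralizer ((bel p M a c).1 : Set G)) := Fintype.ofFinite _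
  have : Finite (IrrCharacter (Subgroup.centralizer ((bel p M a c).1 : Set G))) :=
    Core.finite_irr
  have := Fintype.ofFinite (bel p M a c).2
  have h3 : Cn p c (bel p M a c) (χ : G → ℂ) (χ : G → ℂ) ≠ 0 := by
    rw [Cn_eq]
    exact Cfsg.Agent.H658.contr_self_ne_zero hM hsub.pelt hsub.centralizer_eq hsub.ind
      (blockDefect_bel_of_central hM hmax hc hcc) hχ
  apply h1
  exact (mul_right_cancel₀ h3 ((one_mul _).trans h2)).symm

/-- **The trace formula** for a stable linear character which is nontrivial at a central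
element. -/
theorem sum_rank_eq_zero (hM : IsPModular p M)
    (hmax : IsMaximalBrauerPair p M B a.1 a.2)
    (hr : ∀ i, r i ∈ a.1) (h : IsSys p M B r fun i => bel p M a (r i)) (l : a.1 →* ℂˣ)
    (hl : ∀ (u v : G) (hu : u ∈ a.1) (hv : v ∈ a.1), Fus p M a u v → l ⟨v, hv⟩ = l ⟨u, hu⟩)
    {c : G} (hc : c ∈ a.1) (hcc : ∀ d ∈ a.1, d * c = c * d) (h1 : l ⟨c, hc⟩ ≠ 1) :
    (blockRank p B : ℂ) + ∑ i, ((l ⟨r i, hr i⟩ : ℂˣ) : ℂ) *
      blockRank p (bel p M a (r i)).2 = 0 := by
  classical
  have := Fintype.ofFinite G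
  have := Core.finite_irr (G := G)
  have : Fintype B := Fintype.ofFinite B
  have hst : IsStable p M a (ext0 a.1 l) := by
    refine isStable_of_fus' hM hmax.1.1 fun u v hu hv hf => ?_
    rw [ext0_of_mem _ hu, ext0_of_mem _ hv, hl u v hu hv hf]
  have h2 := star_trace hM hmax hr h hst
  rw [ext0_apply_one, one_mul] at h2
  have h3 : ∑ i, ext0 a.1 l (r i) * (blockRank p (bel p M a (r i)).2 : ℂ) =
      ∑ i, ((l ⟨r i, hr i⟩ : ℂˣ) : ℂ) * blockRank p (bel p M a (r i)).2 :=
    Finset.sum_congr rfl fun i _ => by rw [ext0_of_mem _ (hr i)]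
  rw [← h3, ← h2]
  refine Finset.sum_eq_zero fun χ _ => ?_
  have hgen := star_isGeneralizedCharacter hM hmax (isGeneralizedCharacter_ext0 l) hst
    (Core.isIrr_isCharacter (χ : IrrCharacter G).2)
  have hirr := star_isIrr hM hmax hst (fun _ hg => ext0_mul_conj l hg) (ext0_apply_one l)
    χ.2 hgen
  have hne := star_ne hM hmax hst hc hcc (by
    rw [ext0_of_mem _ hc]
    intro h4
    exact h1 (Units.ext h4)) χ.2
  exact Core.classInner_irr_ne hirr (χ : IrrCharacter G).2 hne

/-- The trace formula for a stable character with values `±1`. -/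
theorem sum_rank_eq_zero_int (hM : IsPModular p M)
    (hmax : IsMaximalBrauerPair p M B a.1 a.2)
    (hr : ∀ i, r i ∈ a.1) (h : IsSys p M B r fun i => bel p M a (r i)) (ε : G → ℤ)
    (hε : ∀ x ∈ a.1, ε x = 1 ∨ ε x = -1)
    (hmul : ∀ x ∈ a.1, ∀ y ∈ a.1, ε (x * y) = ε x * ε y)
    (hfus : ∀ u v : G, u ∈ a.1 → v ∈ a.1 → Fus p M a u v → ε v = ε u)
    {c : G} (hc : c ∈ a.1) (hcc : ∀ d ∈ a.1, d * c = c * d) (h1 : ε c = -1) :
    (blockRank p B : ℤ) + ∑ i, ε (r i) * blockRank p (bel p M a (r i)).2 = 0 := by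
  have hone : ε 1 = 1 := by
    have h2 := hmul 1 a.1.one_mem 1 a.1.one_mem
    rw [mul_one] at h2
    rcases hε 1 a.1.one_mem with h3 | h3
    · exact h3
    · rw [h3] at h2; norm_num at h2
  have hsq : ∀ x ∈ a.1, ((ε x : ℤ) : ℂ) * ((ε x : ℤ) : ℂ) = 1 := by
    intro x hx
    rcases hε x hx with h3 | h3 <;> rw [h3] <;> norm_num
  let l : a.1 →* ℂˣ :=
    { toFun := fun x => ⟨(ε x : ℂ), (ε x : ℂ), hsq x x.2, hsq x x.2⟩
      map_one' := by
        apply Units.ext
        change ((ε ((1 : a.1) : G) : ℤ) : ℂ) = 1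
        rw [OneMemClass.coe_one, hone, Int.cast_one]
      map_mul' := fun x y => by
        apply Units.ext
        change ((ε ((x * y : a.1) : G) : ℤ) : ℂ) = ((ε x : ℤ) : ℂ) * ((ε y : ℤ) : ℂ)
        rw [Subgroup.coe_mul, hmul x x.2 y y.2, Int.cast_mul] }
  have hlv : ∀ x : a.1, ((l x : ℂˣ) : ℂ) = ((ε x : ℤ) : ℂ) := fun x => rfl
  have h2 := sum_rank_eq_zero hM hmax hr h l (fun u v hu hv hf => by
    apply Units.ext
    rw [hlv, hlv]
    exact congrArg (fun t : ℤ => (t : ℂ)) (hfus u v hu hv hf)) hc hcc (fun h3 => by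
    have h4 := congrArg (fun t : ℂˣ => (t : ℂ)) h3
    change ((ε c : ℤ) : ℂ) = 1 at h4
    rw [h1] at h4
    norm_num at h4)
  have h3 : (((blockRank p B : ℤ) + ∑ i, ε (r i) * blockRank p (bel p M a (r i)).2 : ℤ) : ℂ) =
      0 := by
    rw [← h2]
    push_cast
    rfl
  exact_mod_cast h3

end sys

/-- The bound for `p = 2` at a central element. -/
theorem card_zero_add_le_bel {M : Ideal AlgInt} {B : Set (IrrCharacter G)} {a : BrauerPairIdx G}
    (hM : IsPModular 2 M) (hmax : IsMaximalBrauerPair 2 M B a.1 a.2) {c : G} (hc : c ∈ a.1)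
    (hcc : ∀ d ∈ a.1, d * c = c * d) (hl : blockRank 2 (bel 2 M a c).2 = 1) :
    4 * Nat.card B ≤ 3 * Nat.card {χ : IrrCharacter G // χ ∈ B ∧ blockHeight 2 B (χ : G → ℂ) = 0}
      + Nat.card a.1 := by
  have : Fact (Nat.Prime 2) := ⟨Nat.prime_two⟩
  have hsub := isSubsec_bel hM hmax hc
  rw [← pow_blockDefect_eq hM hmax]
  exact card_zero_add_le hM hsub.pelt hsub.centralizer_eq hsub.ind
    (blockDefect_bel_of_central hM hmax hc hcc) hl

end Cfsg.Agent.H602.Small
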