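import Mathlib
import Cfsg.Agent.H584.MaxClass
import Cfsg.Agent.H617.FusMain
import Cfsg.Agent.S4528
import Cfsg.Agent.S4529
import Cfsg.Agent.S4530

/-!
# 2-blocks with defect groups of maximal class, or nonabelian of order eight

* `rank_of_index_four`: `1 ≤ l(B) ≤ 3` and `k₀(B) = 4` if `|D : D'| = 4`, `8 ≤ |D|`;
* `rank_of_eight`: the same for `D` nonabelian of order 8.
-/

set_option autoImplicit false

open Cfsg

namespace Cfsg.Agent.H602.Small

universe u

variable {G : Type u} [Group G] [Finite G] {M : Ideal AlgInt} {B : Set (IrrCharacter G)}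

/-- Defect groups of maximal class. -/
theorem rank_of_index_four (hM : IsPModular 2 M) (hB : IsPBlock M B) {D : Subgroup G}
    (hD : IsDefectGroup 2 M B D) {n : ℕ} (hn : 3 ≤ n) (hcard : Nat.card D = 2 ^ n)
    (hidx : (commutator D).index = 4) : 1 ≤ blockRank 2 B ∧ blockRank 2 B ≤ 3 ∧
      Nat.card {χ : IrrCharacter G // χ ∈ B ∧ blockHeight 2 B (χ : G → ℂ) = 0} = 4 := by
  rcases Cfsg.Agent.H584.MaxClass.dsq_of_index_commutator n hn hcard hidx with
    ⟨k, ⟨e⟩⟩ | ⟨k, hk, x, y, hx, hy, hxy⟩ | ⟨k, ⟨e⟩⟩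
  · have h1 : Nat.card D = 2 ^ (k + 3) := by
      rw [Nat.card_congr e.toEquiv, DihedralGroup.nat_card]
      ring
    have h2 : n = k + 3 := Nat.pow_right_injective le_rfl (hcard.symm.trans h1)
    subst h2
    obtain ⟨-, h3, h4, h5, -⟩ := S4528.result M hM B hB D hD (k + 3) hn ⟨e⟩
    exact ⟨h3, h4, h5⟩
  · have h2 : n = k + 4 := Nat.pow_right_injective le_rfl (hcard.symm.trans hk)
    subst h2
    obtain ⟨-, h3, h4, -, -, h5, -⟩ := S4529.result M hM B hB D hD (k + 4) (by omega) hk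
      ⟨k + 3, by omega, hk, x, y, hx, hy, hxy⟩
    exact ⟨h3, h4, h5⟩
  · have h1 : Nat.card D = 2 ^ (k + 3) := by
      rw [Nat.card_congr e.toEquiv, Nat.card_eq_fintype_card, QuaternionGroup.card]
      ring
    have h2 : n = k + 3 := Nat.pow_right_injective le_rfl (hcard.symm.trans h1)
    subst h2
    obtain ⟨h3, h4, -, h5, -⟩ := S4530.result M hM B hB D hD (k + 3) hn ⟨e⟩
    exact ⟨h3, h4, h5⟩

omit [Finite G] in
/-- The commutator quotient of a nonabelian group of order eight. -/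
theorem index_of_eight {D : Subgroup G} (h8 : Nat.card D = 8)
    (hna : ¬ ∀ x ∈ D, ∀ y ∈ D, x * y = y * x) : (commutator D).index = 4 := by
  have hp : IsPGroup 2 D := IsPGroup.of_card (n := 3) (by rw [h8]; norm_num)
  have hfin : Finite D := Nat.finite_of_card_ne_zero (by rw [h8]; norm_num)
  have hna' : H617.FusTwo.Z D ≠ D := by
    intro h
    apply hna
    intro x hx y hy
    rw [← h] at hy
    exact (H617.FusTwo.mem_Z.1 hy).2 x hx
  obtain ⟨h1, h2⟩ := H617.FusMain.index_ge_four hp hna'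
  have h3 := Subgroup.card_mul_index (commutator D)
  rw [h8] at h3
  have h4 : Nat.card (commutator D) ≠ 1 := by
    intro h
    apply hna
    have h5 : commutator D = ⊥ := Subgroup.card_eq_one.1 h
    intro x hx y hy
    have h6 : (⟨x, hx⟩ : D) * ⟨y, hy⟩ * (⟨x, hx⟩ : D)⁻¹ * (⟨y, hy⟩ : D)⁻¹ ∈ commutator D :=
      Subgroup.commutator_mem_commutator (Subgroup.mem_top _) (Subgroup.mem_top _)
    rw [h5, Subgroup.mem_bot] at h6
    have h7 : x * y * x⁻¹ * y⁻¹ = 1 := congrArg Subtype.val h6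
    calc x * y = x * y * x⁻¹ * y⁻¹ * (y * x) := by group
      _ = y * x := by rw [h7, one_mul]
  have h5 : (commutator D).index ∣ 8 := ⟨_, by rw [mul_comm]; exact h3.symm⟩
  have h6 : (commutator D).index ≤ 8 := Nat.le_of_dvd (by norm_num) h5
  generalize (commutator D).index = m at *
  generalize Nat.card (commutator D) = k at *
  interval_cases m <;> omega

/-- Nonabelian defect groups of order eight. -/
theorem rank_of_eight (hM : IsPModular 2 M) (hB : IsPBlock M B) {D : Subgroup G}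
    (hD : IsDefectGroup 2 M B D) (h8 : Nat.card D = 8)
    (hna : ¬ ∀ x ∈ D, ∀ y ∈ D, x * y = y * x) : 1 ≤ blockRank 2 B ∧ blockRank 2 B ≤ 3 ∧
      Nat.card {χ : IrrCharacter G // χ ∈ B ∧ blockHeight 2 B (χ : G → ℂ) = 0} = 4 :=
  rank_of_index_four hM hB hD (n := 3) le_rfl (by rw [h8]; norm_num) (index_of_eight h8 hna)

end Cfsg.Agent.H602.Small
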