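import Mathlib
import Cfsg.Agent.H602.Small.Sixteen
import Cfsg.Agent.H602.Small.MaxClass
import Cfsg.Agent.H624.FCases

/-!
# Package F3 of S4542
-/

set_option autoImplicit false

open Cfsg

namespace Cfsg.Agent.H602.Small

universe u

/-- Package F3: defect groups of order 16 with centre of order 4, `D / D'` not elementary abelian. -/
theorem rank_le_three_F3 {G : Type u} [Group G] [Finite G] {M : Ideal AlgInt}
    (hM : IsPModular 2 M) {B : Set (IrrCharacter G)} (hB : IsPBlock M B)
    {D : Subgroup G} (hD : IsDefectGroup 2 M B D) (h16 : Nat.card D = 16)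
    (hZ : Nat.card (Subgroup.center D) = 4) {x : D} (hx : x * x ∉ commutator D) :
    blockRank 2 B ≤ 3 := by
  have hp : IsPGroup 2 D := IsPGroup.of_card (n := 4) (by rw [h16]; norm_num)
  have hna : H617.FusTwo.Z D ≠ D := by
    intro h
    have h1 : Subgroup.center D = ⊤ := by
      rw [eq_top_iff]
      intro y _
      rw [Subgroup.mem_center_iff]
      intro w
      have h2 : (y : G) ∈ H617.FusTwo.Z D := by rw [h]; exact y.2
      exact Subtype.ext ((H617.FusTwo.mem_Z.1 h2).2 w w.2)
    rw [h1, Subgroup.card_top, h16] at hZ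
    norm_num at hZ
  obtain ⟨h1, h2⟩ := H617.FusMain.index_ge_four hp hna
  have h3 := Subgroup.card_mul_index (commutator D)
  rw [h16] at h3
  have h4 : Nat.card (commutator D) ≠ 1 := by
    intro h
    have h5 : commutator D = ⊥ := Subgroup.card_eq_one.1 h
    apply hna
    refine H617.FusMain.Z_eq_of_comm fun a ha b hb => ?_
    have h6 : (⟨a, ha⟩ : D) * ⟨b, hb⟩ * (⟨a, ha⟩ : D)⁻¹ * (⟨b, hb⟩ : D)⁻¹ ∈ commutator D :=
      Subgroup.commutator_mem_commutator (Subgroup.mem_top _) (Subgroup.mem_top _)
    rw [h5, Subgroup.mem_bot] at h6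
    have h7 : a * b * a⁻¹ * b⁻¹ = 1 := congrArg Subtype.val h6
    calc a * b = a * b * a⁻¹ * b⁻¹ * (b * a) := by group
      _ = b * a := by rw [h7, one_mul]
  have h5 : (commutator D).index ∣ 16 := ⟨_, by rw [mul_comm]; exact h3.symm⟩
  have h6 : (commutator D).index = 4 ∨ (commutator D).index = 8 := by
    have h7 : (commutator D).index ≤ 16 := Nat.le_of_dvd (by norm_num) h5
    generalize (commutator D).index = m at *
    generalize Nat.card (commutator D) = k at *
    interval_cases m <;> omega
  rcases h6 with h6 | h6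
  · exact (rank_of_index_four hM hB hD (n := 4) (by norm_num) (by rw [h16]; norm_num) h6).2.1
  · exact rank_le_three_of_sixteen_of_sq hM hB hD h16 h6 hx

theorem pkgF3 {M : Ideal AlgInt} (hM : IsPModular 2 M) : H624.FCases.PkgF3.{u} M := by
  intro G _ _ B D hB hD h16 hZ hx
  obtain ⟨x, hx⟩ := hx
  exact rank_le_three_F3 hM hB hD h16 hZ hx

end Cfsg.Agent.H602.Small
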